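import Groth.Agent.L28.BinaryForm.Basic
import Mathlib.RingTheory.MvPolynomial.EulerIdentity
import Mathlib.RingTheory.Nullstellensatz
import Mathlib.Algebra.MvPolynomial.PDeriv
import Mathlib.RingTheory.UniqueFactorizationDomain.Basic
import Mathlib.RingTheory.Polynomial.UniqueFactorization
import Mathlib.Algebra.Squarefree.Basic
import Mathlib.Algebra.Polynomial.Degree.TrailingDegree
import Mathlib.LinearAlgebra.Projectivization.Independence
import Mathlib.Tactic.Ring

/-!
Tools for counting singular points of plane curves.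
-/

set_option autoImplicit false
set_option linter.style.haveILetI false
universe u

open MvPolynomial Module Groth.L03.PlanePoints

namespace Groth.L28.SingBound

variable {k : Type u} [Field k]

/-- A singular point of the zero locus, as a vector. -/
def Sing {σ : Type} (f : MvPolynomial σ k) (v : σ → k) : Prop :=
  eval v f = 0 ∧ ∀ i, eval v (pderiv i f) = 0

lemma eval_smul_hom {σ : Type} [Fintype σ] {d : ℕ} {P : MvPolynomial σ k} (hP : P.IsHomogeneous d)
    (c : k) (v : σ → k) : eval (c • v) P = c ^ d * eval v P := by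
  rw [eval_eq, eval_eq, Finset.mul_sum]
  refine Finset.sum_congr rfl fun e he => ?_
  rw [hP.degree_eq_sum_deg_support he, ← Finset.prod_pow_eq_pow_sum, ← mul_left_comm,
    ← Finset.prod_mul_distrib]
  simp [mul_pow]

lemma Sing.smul {σ : Type} [Fintype σ] {d : ℕ} {f : MvPolynomial σ k} (hf : f.IsHomogeneous d)
    {v : σ → k} (hv : Sing f v) (c : k) : Sing f (c • v) :=
  ⟨by rw [eval_smul_hom hf, hv.1, mul_zero],
    fun i => by rw [eval_smul_hom hf.pderiv, hv.2 i, mul_zero]⟩

/-- The chain rule. -/
theorem pderiv_aeval {σ τ : Type} [Fintype σ] (φ : σ → MvPolynomial τ k) (f : MvPolynomial σ k) (j : τ) :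
    pderiv j (aeval φ f) = ∑ i, aeval φ (pderiv i f) * pderiv j (φ i) := by
  classical
  induction f using MvPolynomial.induction_on with
  | C a => simp
  | add p q hp hq => simp [hp, hq, add_mul, Finset.sum_add_distrib]
  | mul_X p i hp =>
    rw [map_mul, aeval_X, pderiv_mul, hp, Finset.sum_mul]
    simp only [pderiv_mul, map_add, map_mul, aeval_X, add_mul, Finset.sum_add_distrib, pderiv_X,
      Pi.single_apply]
    congr 1
    · exact Finset.sum_congr rfl fun l _ => by ring
    · simp [apply_ite (aeval φ), ite_mul]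

lemma Sing.pullback {σ τ : Type} [Fintype σ] {φ : σ → MvPolynomial τ k} {f : MvPolynomial σ k}
    {u : τ → k} (h : Sing f fun i => eval u (φ i)) : Sing (aeval φ f) u := by
  have e : ∀ g : MvPolynomial σ k, eval u (aeval φ g) = eval (fun i => eval u (φ i)) g := fun g =>
    RingHom.congr_fun (f := (eval u).comp (aeval φ).toRingHom) (g := eval fun i => eval u (φ i))
      (MvPolynomial.ringHom_ext (fun r => by simp) fun l => by simp) g
  exact ⟨by rw [e, h.1], fun j => by
    rw [pderiv_aeval, map_sum]
    exact Finset.sum_eq_zero fun i _ => by rw [map_mul, e, h.2 i, zero_mul]⟩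

/-- The linear form vanishing at `u`. -/
noncomputable def lin (u : Fin 2 → k) : MvPolynomial (Fin 2) k := C (u 1) * X 0 - C (u 0) * X 1

lemma eval_lin (u v : Fin 2 → k) : eval v (lin u) = u 1 * v 0 - u 0 * v 1 := by simp [lin]

lemma lin_mem (u : Fin 2 → k) : lin u ∈ BinaryForm.S k 1 :=
  (mem_homogeneousSubmodule _ _).2 (((isHomogeneous_X k 0).C_mul _).sub ((isHomogeneous_X k 1).C_mul _))

lemma lin_ne_zero {u : Fin 2 → k} (hu : u ≠ 0) : lin u ≠ 0 := fun h => hu (funext fun j => by
  have h0 := congrArg (eval ![(1 : k), 0]) h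
  have h1 := congrArg (eval ![(0 : k), 1]) h
  simp [lin] at h0 h1
  fin_cases j <;> assumption)

variable [IsAlgClosed k]

lemma exists_lin_mul {u : Fin 2 → k} (hu : u ≠ 0) {n : ℕ} {F : MvPolynomial (Fin 2) k}
    (hF : F ∈ BinaryForm.S k (n + 1)) (h : eval u F = 0) : ∃ G ∈ BinaryForm.S k n, F = lin u * G := by
  obtain ⟨L, hL, hL0, hfac⟩ := BinaryForm.exists_linear_dvd hu
  obtain ⟨c, hc, hlc⟩ := hfac 0 (lin u) (lin_mem u) (by rw [eval_lin]; ring)
  classical
  obtain ⟨c, rfl⟩ := BinaryForm.eq_C_of_mem_S_zero hc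
  obtain ⟨G, hG, rfl⟩ := hfac n F hF h
  have hc0 : c ≠ 0 := fun h0 => lin_ne_zero hu (by rw [hlc, h0, map_zero, mul_zero])
  refine ⟨C c⁻¹ * G, BinaryForm.mul_mem_S ((mem_homogeneousSubmodule _ _).2 (isHomogeneous_C _ _)) hG (zero_add n), ?_⟩
  rw [hlc, mul_assoc L, ← mul_assoc (C c), ← C_mul, mul_inv_cancel₀ hc0, C_1, one_mul]

/-- A binary form with too many double roots is zero. -/
theorem eq_zero_of_double_roots : ∀ (m : ℕ) (u : Fin m → Fin 2 → k) (n : ℕ) (F : MvPolynomial (Fin 2) k),
    F ∈ BinaryForm.S k n → n < 2 * m → (∀ a, u a ≠ 0) →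
    (∀ a b, a ≠ b → u a 0 * u b 1 - u a 1 * u b 0 ≠ 0) → (∀ a, Sing F (u a)) → F = 0 := by
  intro m
  induction m with
  | zero => intro u n F _ hn; omega
  | succ m ih =>
    intro u n F hF hn hu hind hF0
    match n, hF with
    | 0, hF =>
      classical
      obtain ⟨c, rfl⟩ := BinaryForm.eq_C_of_mem_S_zero hF
      have := (hF0 0).1
      rw [eval_C] at this
      rw [this, map_zero]
    | n + 1, hF =>
      obtain ⟨G, hG, rfl⟩ := exists_lin_mul (hu 0) hF (hF0 0).1
      have hG0 : eval (u 0) G = 0 := by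
        obtain ⟨i, hi⟩ := Function.ne_iff.1 (hu 0)
        by_contra hne
        have h0 := (hF0 0).2 0
        have h1 := (hF0 0).2 1
        simp only [pderiv_mul, map_add, map_mul, eval_lin] at h0 h1
        simp [lin, hne, Pi.single_apply, mul_comm] at h0 h1
        fin_cases i <;> simp_all
      match n, hG with
      | 0, hG =>
        classical
        obtain ⟨c, rfl⟩ := BinaryForm.eq_C_of_mem_S_zero hG
        rw [eval_C] at hG0
        rw [hG0, map_zero, mul_zero]
      | n + 1, hG =>
        obtain ⟨H, hH, rfl⟩ := exists_lin_mul (hu 0) hG hG0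
        have hH0 : H = 0 := by
          refine ih (fun a => u a.succ) n H hH (by omega) (fun a => hu _)
            (fun a b hab => hind _ _ (fun h => hab (Fin.succ_injective _ h))) fun a => ?_
          have hl : eval (u a.succ) (lin (u 0)) ≠ 0 := by
            rw [eval_lin]
            intro h
            exact hind 0 a.succ (Fin.succ_ne_zero a).symm (by linear_combination -h)
          have h1 := (hF0 a.succ).1
          rw [map_mul, map_mul] at h1
          have hHa : eval (u a.succ) H = 0 :=
            (mul_eq_zero.1 ((mul_eq_zero.1 h1).resolve_left hl)).resolve_left hl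
          refine ⟨hHa, fun j => ?_⟩
          have h2 := (hF0 a.succ).2 j
          simp only [pderiv_mul, map_add, map_mul, hHa, mul_zero, zero_add] at h2
          exact (mul_eq_zero.1 ((mul_eq_zero.1 h2).resolve_left hl)).resolve_left hl
        rw [hH0, mul_zero, mul_zero]

omit [IsAlgClosed k] in
/-- The factors of a homogeneous polynomial are homogeneous. -/
theorem exists_isHomogeneous_of_mul {σ : Type} {g h : MvPolynomial σ k} {d : ℕ}
    (hgh : (g * h).IsHomogeneous d) (h0 : g * h ≠ 0) :
    ∃ a b, a + b = d ∧ g.IsHomogeneous a ∧ h.IsHomogeneous b := by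
  classical
  let φ : MvPolynomial σ k →ₐ[k] Polynomial (MvPolynomial σ k) :=
    aeval fun i => Polynomial.monomial 1 (X i)
  have hev : ∀ p, (φ p).eval 1 = p := fun p => by
    refine RingHom.congr_fun (f := (Polynomial.evalRingHom 1).comp φ.toRingHom) (g := RingHom.id _)
      (MvPolynomial.ringHom_ext (fun r => ?_) fun l => ?_) p <;> simp [φ]
  have hmon : ∀ (e : σ →₀ ℕ) (r : k), φ (monomial e r) = Polynomial.monomial e.degree (monomial e r) := by
    intro e
    induction e using Finsupp.induction with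
    | zero => intro r; simp [φ]
    | single_add i m e _ _ ih =>
      intro r
      rw [show (monomial (Finsupp.single i m + e) r : MvPolynomial σ k) = X i ^ m * monomial e r by
        rw [X_pow_eq_monomial, monomial_mul, one_mul], map_mul, ih, map_pow]
      simp only [φ, aeval_X, Polynomial.monomial_pow, one_mul, Polynomial.monomial_mul_monomial]
      rw [map_add, Finsupp.degree_single]
  have hcoeff : ∀ (p : MvPolynomial σ k) (m : ℕ), ((φ p).coeff m).IsHomogeneous m := by
    intro p m
    induction p using MvPolynomial.induction_on' with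
    | monomial e r =>
      rw [hmon, Polynomial.coeff_monomial]
      split_ifs with h
      · exact isHomogeneous_monomial r h
      · exact isHomogeneous_zero σ k m
    | add p q hp hq => rw [map_add, Polynomial.coeff_add]; exact hp.add hq
  have hprod : φ (g * h) = Polynomial.monomial d (g * h) := by
    conv_lhs => rw [(g * h).as_sum, map_sum]
    conv_rhs => rw [(g * h).as_sum, map_sum]
    refine Finset.sum_congr rfl fun e he => ?_
    rw [hmon, show e.degree = d from by
      rw [Finsupp.degree_apply]; exact (hgh.degree_eq_sum_deg_support he).symm]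
  rw [map_mul] at hprod
  have hne : φ g * φ h ≠ 0 := by rw [hprod]; simpa using h0
  have hd := congrArg Polynomial.natDegree hprod
  have ht := congrArg Polynomial.natTrailingDegree hprod
  rw [Polynomial.natDegree_mul (left_ne_zero_of_mul hne) (right_ne_zero_of_mul hne),
    Polynomial.natDegree_monomial_eq _ h0] at hd
  rw [Polynomial.natTrailingDegree_mul (left_ne_zero_of_mul hne) (right_ne_zero_of_mul hne),
    Polynomial.natTrailingDegree_monomial h0] at ht
  have key : ∀ p : MvPolynomial σ k, (φ p).natTrailingDegree = (φ p).natDegree →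
      p.IsHomogeneous (φ p).natDegree := fun p hp => by
    by_cases hp0 : φ p = 0
    · rw [← hev p, hp0, Polynomial.eval_zero]; exact isHomogeneous_zero σ k _
    conv_lhs => rw [← hev p]
    rw [Polynomial.eval_eq_sum, Polynomial.sum_def, Finset.sum_eq_single (φ p).natDegree]
    · rw [one_pow, mul_one]; exact hcoeff p _
    · intro b hb hbd
      have h1 := Polynomial.le_natDegree_of_mem_supp b hb
      have h2 := Polynomial.natTrailingDegree_le_of_mem_supp b hb
      omega
    · intro hn
      rw [Polynomial.notMem_support_iff.1 hn, zero_mul]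
  have h1 := Polynomial.natTrailingDegree_le_natDegree (φ g)
  have h2 := Polynomial.natTrailingDegree_le_natDegree (φ h)
  exact ⟨_, _, hd, key g (by omega), key h (by omega)⟩

omit [IsAlgClosed k] in
/-- A separating form for a finite set of points. -/
theorem surjective_eval (Λ : Finset (Fin 3 → k))
    (hdist : ∀ v ∈ Λ, ∀ w ∈ Λ, v ≠ w → LinearIndependent k ![v, w]) (hne : ∀ v ∈ Λ, v ≠ 0)
    {N : ℕ} (hN : Λ.card ≤ N) :
    Function.Surjective (LinearMap.pi fun v : Λ => (aeval (v : Fin 3 → k)).toLinearMap ∘ₗ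
      (homogeneousSubmodule (Fin 3) k N).subtype) := by
  classical
  intro y
  refine LinearMap.range_eq_top.1 (eq_top_iff.2 fun z _ => ?_) y
  rw [show z = ∑ v, z v • (Pi.single v 1 : Λ → k) by funext j; simp [Finset.sum_apply, Pi.single_apply]]
  refine Submodule.sum_mem _ fun v _ => Submodule.smul_mem _ _ ?_
  obtain ⟨f, hf, hv, hz⟩ := exists_prod (v := (v : Fin 3 → k)) (Λ.erase v) fun w hw =>
    notMem_span_of_linearIndependent (hdist _ v.2 _ (Finset.mem_of_mem_erase hw)
      (Finset.ne_of_mem_erase hw).symm)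
  obtain ⟨i, hi⟩ := Function.ne_iff.1 (hne _ v.2)
  have hcard : (Λ.erase (v : Fin 3 → k)).card ≤ N := ((Finset.card_erase_le).trans hN)
  set F := f * X i ^ (N - (Λ.erase (v : Fin 3 → k)).card)
  have hFh : F.IsHomogeneous N := by
    have := hf.mul (isHomogeneous_X_pow (R := k) i (N - (Λ.erase (v : Fin 3 → k)).card))
    rwa [Nat.add_sub_cancel' hcard] at this
  have hFv : aeval (v : Fin 3 → k) F ≠ 0 := by
    rw [map_mul, map_pow, aeval_X]
    exact mul_ne_zero hv (pow_ne_zero _ hi)
  refine ⟨⟨(aeval (v : Fin 3 → k) F)⁻¹ • F, Submodule.smul_mem _ _ hFh⟩, funext fun w => ?_⟩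
  show aeval (w : Fin 3 → k) ((aeval (v : Fin 3 → k) F)⁻¹ • F) = _
  rw [map_smul, smul_eq_mul]
  by_cases h : w = v
  · subst h
    rw [inv_mul_cancel₀ hFv, Pi.single_eq_same]
  · rw [Pi.single_eq_of_ne h, show aeval (w : Fin 3 → k) F = 0 by
      rw [map_mul, hz w (Finset.mem_erase.2 ⟨fun hh => h (Subtype.ext hh), w.2⟩), zero_mul], mul_zero]

omit [IsAlgClosed k] in
/-- The weak theorem of Bezout. -/
theorem card_le_mul {g h : MvPolynomial (Fin 3) k} {a b : ℕ} (hg : g.IsHomogeneous a)
    (hh : h.IsHomogeneous b) (hg0 : g ≠ 0) (hh0 : h ≠ 0) (hgh : IsRelPrime g h)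
    (Λ : Finset (Fin 3 → k)) (hdist : ∀ v ∈ Λ, ∀ w ∈ Λ, v ≠ w → LinearIndependent k ![v, w])
    (hne : ∀ v ∈ Λ, v ≠ 0) (hz : ∀ v ∈ Λ, eval v g = 0 ∧ eval v h = 0) : Λ.card ≤ a * b := by
  classical
  set M := Λ.card with hM
  set N := a + b + M with hN
  haveI hfinS : ∀ n, Module.Finite k (homogeneousSubmodule (Fin 3) k n) := fun n => finite_homogeneous 2 n
  let mulBy : MvPolynomial (Fin 3) k → ℕ → Submodule k (MvPolynomial (Fin 3) k) := fun p n =>
    (homogeneousSubmodule (Fin 3) k n).map (LinearMap.mulLeft k p)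
  have hdim : ∀ p : MvPolynomial (Fin 3) k, p ≠ 0 → ∀ n, finrank k (mulBy p n) = (n + 2).choose 2 :=
    fun p hp n => by
    rw [← (Submodule.equivMapOfInjective (LinearMap.mulLeft k p) (fun _ _ e => mul_left_cancel₀ hp e) _).finrank_eq]
    exact (finrank_homogeneous 2 n).2
  set A := mulBy g (b + M)
  set B := mulBy h (a + M)
  have hle : A ⊔ B ≤ homogeneousSubmodule (Fin 3) k N := by
    refine sup_le ?_ ?_ <;> rintro _ ⟨x, hx, rfl⟩
    · exact (mem_homogeneousSubmodule _ _).2 ((show a + (b + M) = N by omega) ▸ hg.mul hx)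
    · exact (mem_homogeneousSubmodule _ _).2 ((show b + (a + M) = N by omega) ▸ hh.mul hx)
  have hinf : A ⊓ B ≤ mulBy (g * h) M := by
    rintro _ ⟨⟨x, hx, rfl⟩, ⟨y, hy, hxy⟩⟩
    have hxy' : h * y = g * x := hxy
    obtain ⟨w, rfl⟩ : h ∣ x := hgh.symm.dvd_of_dvd_mul_left ⟨y, hxy'.symm⟩
    show g * (h * w) ∈ _
    rw [← mul_assoc]
    rcases eq_or_ne w 0 with rfl | hw0
    · simp
    obtain ⟨b', m, hbm, hb', hw⟩ := exists_isHomogeneous_of_mul hx (mul_ne_zero hh0 hw0)
    have hbb : b' = b := hb'.inj_right hh hh0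
    exact ⟨w, (show m = M by omega) ▸ hw, rfl⟩
  let ev : homogeneousSubmodule (Fin 3) k N →ₗ[k] (Λ → k) :=
    LinearMap.pi fun v => (aeval (v : Fin 3 → k)).toLinearMap ∘ₗ Submodule.subtype _
  have hsurj : Function.Surjective ev := surjective_eval Λ hdist hne (by omega)
  have hker : A ⊔ B ≤ (LinearMap.ker ev).map (Submodule.subtype _) := by
    intro x hx
    refine ⟨⟨x, hle hx⟩, LinearMap.mem_ker.2 (funext fun v => ?_), rfl⟩
    obtain ⟨_, ⟨y, _, rfl⟩, _, ⟨z, _, rfl⟩, rfl⟩ := Submodule.mem_sup.1 hx
    show aeval (v : Fin 3 → k) (g * y + h * z) = 0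
    simp only [aeval_eq_eval, map_add, map_mul, (hz v v.2).1, (hz v v.2).2]
    simp
  haveI : Module.Finite k A := Submodule.finiteDimensional_of_le (le_sup_left.trans hle)
  haveI : Module.Finite k B := Submodule.finiteDimensional_of_le (le_sup_right.trans hle)
  have h1 := LinearMap.finrank_range_add_finrank_ker ev
  rw [LinearMap.range_eq_top.2 hsurj, finrank_top, Module.finrank_fintype_fun_eq_card, Fintype.card_coe,
    (finrank_homogeneous 2 N).2] at h1
  have h2 := Submodule.finrank_mono hker
  rw [← (Submodule.equivMapOfInjective _ Subtype.val_injective _).finrank_eq] at h2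
  have h3 := Submodule.finrank_sup_add_finrank_inf_eq A B
  haveI : Module.Finite k (mulBy (g * h) M) := inferInstanceAs (Module.Finite k ((homogeneousSubmodule (Fin 3) k M).map _))
  have h4 := Submodule.finrank_mono hinf
  rw [hdim g hg0, hdim h hh0] at h3
  rw [hdim _ (mul_ne_zero hg0 hh0)] at h4
  have e : ∀ n : ℕ, 2 * (n + 2).choose 2 = (n + 2) * (n + 1) := fun n => by
    induction n with
    | zero => rfl
    | succ n ih => rw [Nat.choose_succ_succ, Nat.choose_one_right]; ring_nf; ring_nf at ih; omega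
  have e1 := e N
  have e2 := e (b + M)
  have e3 := e (a + M)
  have e4 := e M
  simp only [hN] at e1 h1
  nlinarith

end Groth.L28.SingBound
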