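import Groth.Agent.L28.SingBound.Basic
import Mathlib.LinearAlgebra.Basis.VectorSpace
import Mathlib.RingTheory.MvPolynomial.Basic
import Mathlib.Tactic.FieldSimp
import Mathlib.Tactic.LinearCombination

/-!
A reduced curve of degree at most four has at most `d(d-1)/2` singular points.
-/

set_option autoImplicit false
set_option linter.style.haveILetI false
universe u

open MvPolynomial Module Groth.L03.PlanePoints

namespace Groth.L28.SingBound

variable {k : Type u} [Field k] [IsAlgClosed k]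

/-- An irreducible curve does not contain a curve of smaller degree. -/
theorem no_small_component {f q : MvPolynomial (Fin 3) k} {d e : ℕ} (hf : f.IsHomogeneous d)
    (hirr : Irreducible f) (hq : q.IsHomogeneous e) (hq0 : q ≠ 0) (he : 0 < e) (hed : e < d)
    (hV : ∀ v, eval v q = 0 → eval v f = 0) : False := by
  have hqu : ¬ IsUnit q := fun hu => by
    obtain ⟨r, hr⟩ := hu.exists_right_inv
    have := congrArg MvPolynomial.totalDegree hr
    rw [totalDegree_mul_of_isDomain hq0 (right_ne_zero_of_mul (hr ▸ one_ne_zero)), hq.totalDegree hq0,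
      totalDegree_one] at this
    omega
  obtain ⟨π, hπ, hπq⟩ := WfDvdMonoid.exists_irreducible_factor hqu hq0
  have hmem : f ∈ vanishingIdeal k (zeroLocus k (Ideal.span {q})) := by
    rw [mem_vanishingIdeal_iff]
    intro v hv
    rw [mem_zeroLocus_iff] at hv
    rw [aeval_eq_eval]
    exact hV v (by simpa [aeval_eq_eval] using hv q (Ideal.mem_span_singleton_self q))
  rw [vanishingIdeal_zeroLocus_eq_radical] at hmem
  obtain ⟨N, hN⟩ := hmem
  rw [Ideal.mem_span_singleton] at hN
  have hfq : f ∣ q := ((hπ.associated_of_dvd hirr (hπ.prime.dvd_of_dvd_pow (hπq.trans hN))).symm.dvd).trans hπq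
  obtain ⟨r, rfl⟩ := hfq
  have h1 := totalDegree_mul_of_isDomain (left_ne_zero_of_mul hq0) (right_ne_zero_of_mul hq0)
  rw [hq.totalDegree hq0, hf.totalDegree (left_ne_zero_of_mul hq0)] at h1
  omega

/-- The forms parametrising a line. -/
noncomputable def lineMap (P Q : Fin 3 → k) : Fin 3 → MvPolynomial (Fin 2) k :=
  fun i => C (P i) * X 0 + C (Q i) * X 1

omit [IsAlgClosed k] in
lemma eval_lineMap (P Q : Fin 3 → k) (u : Fin 2 → k) :
    (fun i => eval u (lineMap P Q i)) = u 0 • P + u 1 • Q := by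
  funext i
  simp [lineMap, mul_comm]

/-- Singular points on a line. -/
theorem no_line {f : MvPolynomial (Fin 3) k} {d m : ℕ} (hf : f.IsHomogeneous d) (hirr : Irreducible f)
    (hd : 1 < d) (hdm : d < 2 * m) {P Q : Fin 3 → k} (hPQ : LinearIndependent k ![P, Q])
    (u : Fin m → Fin 2 → k) (hu : ∀ a, u a ≠ 0)
    (hind : ∀ a b, a ≠ b → u a 0 * u b 1 - u a 1 * u b 0 ≠ 0)
    (hS : ∀ a, Sing f (u a 0 • P + u a 1 • Q)) : False := by
  classical
  have hF : aeval (lineMap P Q) f ∈ BinaryForm.S k d := by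
    rw [mem_homogeneousSubmodule]
    simpa using hf.aeval (lineMap P Q) fun i =>
      ((isHomogeneous_X k (0 : Fin 2)).C_mul _).add ((isHomogeneous_X k (1 : Fin 2)).C_mul _)
  have hzero : aeval (lineMap P Q) f = 0 :=
    eq_zero_of_double_roots m u d _ hF hdm hu hind fun a =>
      Sing.pullback (by rw [eval_lineMap]; exact hS a)
  have hspan : finrank k (Submodule.span k (Set.range ![P, Q])) = 2 := by
    rw [finrank_span_eq_card hPQ, Fintype.card_fin]
  obtain ⟨R, hR⟩ : ∃ R, R ∉ Submodule.span k (Set.range ![P, Q]) := by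
    by_contra! h
    have htop : Submodule.span k (Set.range ![P, Q]) = ⊤ := eq_top_iff.2 fun x _ => h x
    rw [htop, finrank_top, Module.finrank_fintype_fun_eq_card, Fintype.card_fin] at hspan
    omega
  obtain ⟨ℓ, hℓR, hℓ⟩ := Submodule.exists_le_ker_of_notMem hR
  have hker : LinearMap.ker ℓ = Submodule.span k (Set.range ![P, Q]) := by
    refine (Submodule.eq_of_le_of_finrank_le hℓ ?_).symm
    rw [hspan]
    have h1 := LinearMap.finrank_range_add_finrank_ker ℓ
    have h2 : LinearMap.range ℓ = ⊤ := by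
      refine LinearMap.range_eq_top.2 fun y => ⟨(y / ℓ R) • R, ?_⟩
      rw [map_smul, smul_eq_mul, div_mul_cancel₀ _ hℓR]
    rw [h2, finrank_top, Module.finrank_self, Module.finrank_fintype_fun_eq_card, Fintype.card_fin] at h1
    omega
  refine no_small_component hf hirr (isHomogeneous_toForm ℓ) (fun h => hℓR ?_) one_pos hd fun v hv => ?_
  · rw [← aeval_toForm ℓ R, h, map_zero]
  · have hmem : v ∈ LinearMap.ker ℓ := by
      rw [LinearMap.mem_ker, ← aeval_toForm ℓ v, aeval_eq_eval]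
      exact hv
    rw [hker, Matrix.range_cons, Matrix.range_cons, Matrix.range_empty, Set.union_empty,
      Set.singleton_union] at hmem
    obtain ⟨s, t, rfl⟩ := Submodule.mem_span_pair.1 hmem
    have := congrArg (eval ![s, t]) hzero
    rw [map_zero, ← aeval_eq_eval, ← AlgHom.comp_apply, comp_aeval, aeval_eq_eval,
      show (fun i => aeval ![s, t] (lineMap P Q i)) = s • P + t • Q by
        simpa [aeval_eq_eval] using eval_lineMap P Q ![s, t]] at this
    exact this

/-- An irreducible quartic has no five singular points. -/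
theorem no_five {f : MvPolynomial (Fin 3) k} (hf : f.IsHomogeneous 4) (hirr : Irreducible f)
    (P : Fin 5 → Fin 3 → k) (hP : ∀ a b, a ≠ b → LinearIndependent k ![P a, P b])
    (hS : ∀ a, Sing f (P a)) : False := by
  classical
  have hP0 : ∀ a, P a ≠ 0 := fun a h => by
    obtain ⟨b, hb⟩ := exists_ne a
    exact (hP a b hb.symm).ne_zero 0 (by simpa using h)
  have hcol : ∀ x y z, x ≠ y → x ≠ z → y ≠ z → P z ∉ Submodule.span k {P x, P y} := by
    intro x y z hxy hxz hyz hmem
    obtain ⟨α, β, hαβ⟩ := Submodule.mem_span_pair.1 hmem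
    have hα : α ≠ 0 := fun h => by
      rw [h, zero_smul, zero_add] at hαβ
      exact notMem_span_of_linearIndependent (hP z y (Ne.symm hyz))
        (Submodule.mem_span_singleton.2 ⟨β, hαβ⟩)
    have hβ : β ≠ 0 := fun h => by
      rw [h, zero_smul, add_zero] at hαβ
      exact notMem_span_of_linearIndependent (hP z x (Ne.symm hxz))
        (Submodule.mem_span_singleton.2 ⟨α, hαβ⟩)
    refine no_line hf hirr (by norm_num) (m := 3) (by norm_num) (hP x y hxy)
      ![![1, 0], ![0, 1], ![α, β]] (fun a => ?_) (fun a b hab => ?_) fun a => ?_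
    · fin_cases a <;> simp [funext_iff, Fin.forall_fin_two, hα]
    · fin_cases a <;> fin_cases b <;> simp_all
    · fin_cases a
      · simpa using hS x
      · simpa using hS y
      · simpa [hαβ] using hS z
  have hli : LinearIndependent k ![P 0, P 1, P 2] := by
    have := linearIndependent_finSnoc.2 ⟨hP 0 1 (by decide), (show P 2 ∉ Submodule.span k (Set.range ![P 0, P 1]) by
      rw [Matrix.range_cons, Matrix.range_cons, Matrix.range_empty, Set.union_empty, Set.singleton_union]
      exact hcol 0 1 2 (by decide) (by decide) (by decide))⟩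
    have heq : Fin.snoc ![P 0, P 1] (P 2) = ![P 0, P 1, P 2] := by funext i; fin_cases i <;> rfl
    rw [heq] at this
    exact this
  let B := basisOfLinearIndependentOfCardEqFinrank hli (by simp)
  have hB : ∀ l, B l = ![P 0, P 1, P 2] l := fun l => by simp [B]
  let Y : Fin 3 → ((Fin 3 → k) →ₗ[k] k) := fun l => B.coord l
  have hexp : ∀ v, v = Y 0 v • P 0 + Y 1 v • P 1 + Y 2 v • P 2 := fun v => by
    conv_lhs => rw [← B.sum_repr v, Fin.sum_univ_three]
    simp [Y, hB]
  obtain ⟨a, ha⟩ : ∃ a : Fin 3 → k, P 3 = a 0 • P 0 + a 1 • P 1 + a 2 • P 2 := ⟨fun l => Y l (P 3), hexp _⟩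
  obtain ⟨b, hb⟩ : ∃ b : Fin 3 → k, P 4 = b 0 • P 0 + b 1 • P 1 + b 2 • P 2 := ⟨fun l => Y l (P 4), hexp _⟩
  have coord_ne : ∀ (z : Fin 5) (c : Fin 3 → k), z ≠ 0 → z ≠ 1 → z ≠ 2 →
      P z = c 0 • P 0 + c 1 • P 1 + c 2 • P 2 → ∀ l, c l ≠ 0 := by
    intro z c h0 h1 h2 hc l hl
    fin_cases l
    · exact hcol 1 2 z (by decide) (Ne.symm h1) (Ne.symm h2)
        (Submodule.mem_span_pair.2 ⟨c 1, c 2, by rw [hc, show c 0 = 0 from hl]; simp⟩)
    · exact hcol 0 2 z (by decide) (Ne.symm h0) (Ne.symm h2)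
        (Submodule.mem_span_pair.2 ⟨c 0, c 2, by rw [hc, show c 1 = 0 from hl]; simp⟩)
    · exact hcol 0 1 z (by decide) (Ne.symm h0) (Ne.symm h1)
        (Submodule.mem_span_pair.2 ⟨c 0, c 1, by rw [hc, show c 2 = 0 from hl]; simp⟩)
  have ha0 := coord_ne 3 a (by decide) (by decide) (by decide) ha
  have hb0 := coord_ne 4 b (by decide) (by decide) (by decide) hb
  have hdet : ∀ (n : Fin 5) (w : k), n ≠ 3 → n ≠ 4 → ∀ s t : k, s ≠ 0 → s • P 3 - t • P 4 ≠ w • P n := by
    intro n w h3 h4 s t hs h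
    rcases eq_or_ne w 0 with rfl | hw
    · rw [zero_smul] at h
      exact hs ((LinearIndependent.pair_iff.1 (hP 3 4 (by decide)) s (-t) (by rw [neg_smul, ← sub_eq_add_neg, h])).1)
    · refine hcol 3 4 n (by decide) (Ne.symm h3) (Ne.symm h4)
        (Submodule.mem_span_pair.2 ⟨s / w, -(t / w), ?_⟩)
      rw [← inv_smul_smul₀ hw (P n), ← h, smul_sub, smul_smul, smul_smul, neg_smul, ← sub_eq_add_neg,
        div_eq_inv_mul, div_eq_inv_mul]
  have h01 : a 0 * b 1 - a 1 * b 0 ≠ 0 := fun h => hdet 2 (b 0 * a 2 - a 0 * b 2) (by decide) (by decide)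
    (b 0) (a 0) (hb0 0) (by
      have h' : b 0 * a 1 = a 0 * b 1 := by linear_combination -h
      rw [ha, hb]; simp only [smul_add, smul_smul, h', mul_comm (b 0) (a 0), sub_smul]; abel)
  have h02 : a 0 * b 2 - a 2 * b 0 ≠ 0 := fun h => hdet 1 (b 0 * a 1 - a 0 * b 1) (by decide) (by decide)
    (b 0) (a 0) (hb0 0) (by
      have h' : b 0 * a 2 = a 0 * b 2 := by linear_combination -h
      rw [ha, hb]; simp only [smul_add, smul_smul, h', mul_comm (b 0) (a 0), sub_smul]; abel)
  have h12 : a 1 * b 2 - a 2 * b 1 ≠ 0 := fun h => hdet 0 (b 1 * a 0 - a 1 * b 0) (by decide) (by decide)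
    (b 1) (a 1) (hb0 1) (by
      have h' : b 1 * a 2 = a 1 * b 2 := by linear_combination -h
      rw [ha, hb]; simp only [smul_add, smul_smul, h', mul_comm (b 1) (a 1), sub_smul]; abel)
  let ℓ : Fin 3 → MvPolynomial (Fin 2) k := fun l => C (a l)⁻¹ * X 0 + C (b l)⁻¹ * X 1
  let φ : Fin 3 → MvPolynomial (Fin 2) k := fun i =>
    C (P 0 i) * (ℓ 1 * ℓ 2) + C (P 1 i) * (ℓ 0 * ℓ 2) + C (P 2 i) * (ℓ 0 * ℓ 1)
  have hψ : ∀ u : Fin 2 → k, (fun i => eval u (φ i)) =
      (eval u (ℓ 1) * eval u (ℓ 2)) • P 0 + (eval u (ℓ 0) * eval u (ℓ 2)) • P 1 +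
        (eval u (ℓ 0) * eval u (ℓ 1)) • P 2 := fun u => by
    funext i
    simp only [φ, map_add, map_mul, eval_C, Pi.add_apply, Pi.smul_apply, smul_eq_mul]
    ring
  have hℓh : ∀ l, (ℓ l).IsHomogeneous 1 := fun l =>
    ((isHomogeneous_X k (0 : Fin 2)).C_mul _).add ((isHomogeneous_X k (1 : Fin 2)).C_mul _)
  have hF : aeval φ f ∈ BinaryForm.S k 8 := by
    rw [mem_homogeneousSubmodule]
    simpa using hf.aeval φ (n := 2) fun i =>
      ((((hℓh 1).mul (hℓh 2)).C_mul _).add (((hℓh 0).mul (hℓh 2)).C_mul _)).add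
        (((hℓh 0).mul (hℓh 1)).C_mul _)
  have hev : ∀ (u : Fin 2 → k) (l : Fin 3), eval u (ℓ l) = (a l)⁻¹ * u 0 + (b l)⁻¹ * u 1 :=
    fun u l => by simp [ℓ]
  let r : Fin 3 → Fin 2 → k := fun l => ![(b l)⁻¹, -(a l)⁻¹]
  have hr : ∀ l, eval (r l) (ℓ l) = 0 := fun l => by rw [hev]; simp [r]; ring
  have hzero : aeval φ f = 0 := by
    refine eq_zero_of_double_roots 5 ![![1, 0], ![0, 1], r 0, r 1, r 2] 8 _ hF (by norm_num)
      (fun x => ?_) (fun x y hxy => ?_) fun x => ?_
    · fin_cases x <;> simp [r, funext_iff, Fin.forall_fin_two, hb0]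
    · have e : ∀ l m : Fin 3, a l * b m - a m * b l ≠ 0 →
          (b l)⁻¹ * (-(a m)⁻¹) - (-(a l)⁻¹) * (b m)⁻¹ ≠ 0 := by
        intro l m h h'
        refine h ?_
        have h1 := ha0 l; have h2 := ha0 m; have h3 := hb0 l; have h4 := hb0 m
        field_simp at h'
        linear_combination -h'
      have e01 := e 0 1 h01
      have e02 := e 0 2 h02
      have e12 := e 1 2 h12
      have e10 := e 1 0 (fun h => h01 (by linear_combination -h))
      have e20 := e 2 0 (fun h => h02 (by linear_combination -h))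
      have e21 := e 2 1 (fun h => h12 (by linear_combination -h))
      fin_cases x <;> fin_cases y <;>
        first
        | exact absurd rfl hxy
        | exact e01 | exact e02 | exact e12 | exact e10 | exact e20 | exact e21
        | simp [r, ha0, hb0]
    · refine Sing.pullback ?_
      rw [hψ]
      fin_cases x
      · have : eval ![1, 0] (ℓ 1) * eval ![1, 0] (ℓ 2) = (a 0 * a 1 * a 2)⁻¹ * a 0 ∧
            eval ![1, 0] (ℓ 0) * eval ![1, 0] (ℓ 2) = (a 0 * a 1 * a 2)⁻¹ * a 1 ∧
            eval ![1, 0] (ℓ 0) * eval ![1, 0] (ℓ 1) = (a 0 * a 1 * a 2)⁻¹ * a 2 := by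
          have h1 := ha0 0; have h2 := ha0 1; have h3 := ha0 2
          simp only [hev]; refine ⟨?_, ?_, ?_⟩ <;> simp <;> field_simp
        show Sing f ((eval ![1, 0] (ℓ 1) * eval ![1, 0] (ℓ 2)) • P 0 +
          (eval ![1, 0] (ℓ 0) * eval ![1, 0] (ℓ 2)) • P 1 + (eval ![1, 0] (ℓ 0) * eval ![1, 0] (ℓ 1)) • P 2)
        rw [this.1, this.2.1, this.2.2, mul_smul, mul_smul, mul_smul, ← smul_add, ← smul_add, ← ha]
        exact (hS 3).smul hf _
      · have : eval ![0, 1] (ℓ 1) * eval ![0, 1] (ℓ 2) = (b 0 * b 1 * b 2)⁻¹ * b 0 ∧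
            eval ![0, 1] (ℓ 0) * eval ![0, 1] (ℓ 2) = (b 0 * b 1 * b 2)⁻¹ * b 1 ∧
            eval ![0, 1] (ℓ 0) * eval ![0, 1] (ℓ 1) = (b 0 * b 1 * b 2)⁻¹ * b 2 := by
          have h1 := hb0 0; have h2 := hb0 1; have h3 := hb0 2
          simp only [hev]; refine ⟨?_, ?_, ?_⟩ <;> simp <;> field_simp
        show Sing f ((eval ![0, 1] (ℓ 1) * eval ![0, 1] (ℓ 2)) • P 0 +
          (eval ![0, 1] (ℓ 0) * eval ![0, 1] (ℓ 2)) • P 1 + (eval ![0, 1] (ℓ 0) * eval ![0, 1] (ℓ 1)) • P 2)
        rw [this.1, this.2.1, this.2.2, mul_smul, mul_smul, mul_smul, ← smul_add, ← smul_add, ← hb]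
        exact (hS 4).smul hf _
      · simpa [hr] using (hS 0).smul hf _
      · simpa [hr] using (hS 1).smul hf _
      · simpa [hr] using (hS 2).smul hf _
  have hvan : ∀ u : Fin 2 → k, eval (fun i => eval u (φ i)) f = 0 := fun u => by
    have := congrArg (eval u) hzero
    rw [map_zero, ← aeval_eq_eval, ← AlgHom.comp_apply, comp_aeval, aeval_eq_eval] at this
    simpa only [aeval_eq_eval] using this
  have hfP : ∀ (c : k) (x : Fin 5), eval (c • P x) f = 0 := fun c x => ((hS x).smul hf c).1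
  let A : Fin 3 → k := fun l => (a l)⁻¹
  let Bi : Fin 3 → k := fun l => (b l)⁻¹
  let c0 := A 1 * Bi 2 - A 2 * Bi 1
  let c1 := A 2 * Bi 0 - A 0 * Bi 2
  let c2 := A 0 * Bi 1 - A 1 * Bi 0
  have cne : ∀ l m : Fin 3, a l * b m - a m * b l ≠ 0 → A m * Bi l - A l * Bi m ≠ 0 := by
    intro l m h h'
    refine h ?_
    have h1 := ha0 l; have h2 := ha0 m; have h3 := hb0 l; have h4 := hb0 m
    simp only [A, Bi] at h'
    field_simp at h'
    linear_combination h'
  have hc0 : c0 ≠ 0 := cne 2 1 fun h => h12 (by linear_combination -h)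
  have hc1 : c1 ≠ 0 := cne 0 2 h02
  have hc2 : c2 ≠ 0 := cne 1 0 fun h => h01 (by linear_combination -h)
  let q : MvPolynomial (Fin 3) k := C c0 * (toForm (Y 1) * toForm (Y 2)) +
    C c1 * (toForm (Y 0) * toForm (Y 2)) + C c2 * (toForm (Y 0) * toForm (Y 1))
  have hevq : ∀ v, eval v q = c0 * (Y 1 v * Y 2 v) + c1 * (Y 0 v * Y 2 v) + c2 * (Y 0 v * Y 1 v) := by
    intro v
    simp only [q, map_add, map_mul, eval_C, ← aeval_eq_eval, aeval_toForm]
  refine no_small_component hf hirr (q := q) (e := 2) ?_ ?_ two_pos (by norm_num) ?_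
  · exact ((((isHomogeneous_toForm _).mul (isHomogeneous_toForm _)).C_mul _).add
      (((isHomogeneous_toForm _).mul (isHomogeneous_toForm _)).C_mul _)).add
      (((isHomogeneous_toForm _).mul (isHomogeneous_toForm _)).C_mul _)
  · intro h
    refine hc0 ?_
    have := congrArg (eval (B 1 + B 2)) h
    rw [hevq, map_zero] at this
    simpa [Y] using this
  intro v hv
  rw [hevq] at hv
  have hv' := hexp v
  by_cases hy0 : Y 0 v = 0
  · rw [hy0] at hv hv'
    rw [zero_smul, zero_add] at hv'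
    simp only [zero_mul, mul_zero, add_zero] at hv
    rcases mul_eq_zero.1 ((mul_eq_zero.1 hv).resolve_left hc0) with h | h <;>
      rw [hv', h] <;> simp [hfP]
  by_cases hy1 : Y 1 v = 0
  · rw [hy1] at hv hv'
    simp only [zero_mul, mul_zero, zero_add, add_zero] at hv
    have h := ((mul_eq_zero.1 ((mul_eq_zero.1 hv).resolve_left hc1))).resolve_left hy0
    rw [hv', h]; simp [hfP]
  by_cases hy2 : Y 2 v = 0
  · rw [hy2] at hv
    simp only [zero_mul, mul_zero, zero_add] at hv
    exact absurd ((mul_eq_zero.1 hv).resolve_left hc2) (mul_ne_zero hy0 hy1)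
  set z0 := (Y 0 v)⁻¹
  set z1 := (Y 1 v)⁻¹
  set z2 := (Y 2 v)⁻¹
  have hz : c0 * z0 + c1 * z1 + c2 * z2 = 0 := by
    have : (c0 * z0 + c1 * z1 + c2 * z2) * (Y 0 v * Y 1 v * Y 2 v) = 0 := by
      simp only [z0, z1, z2]
      field_simp
      linear_combination hv
    exact (mul_eq_zero.1 this).resolve_right (mul_ne_zero (mul_ne_zero hy0 hy1) hy2)
  let s := (z0 * Bi 1 - z1 * Bi 0) / c2
  let t := (A 0 * z1 - A 1 * z0) / c2
  have e0 : A 0 * s + Bi 0 * t = z0 := by
    simp only [s, t]; field_simp; simp only [c2]; ring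
  have e1 : A 1 * s + Bi 1 * t = z1 := by
    simp only [s, t]; field_simp; simp only [c2]; ring
  have e2 : A 2 * s + Bi 2 * t = z2 := by
    refine mul_left_cancel₀ hc2 ?_
    linear_combination (norm := (simp only [c0, c1, c2]; ring)) -hz - c0 * e0 - c1 * e1
  have h := hvan ![s, t]
  rw [hψ, hev, hev, hev] at h
  simp only [Matrix.cons_val_zero, Matrix.cons_val_one] at h
  rw [show (a 1)⁻¹ * s + (b 1)⁻¹ * t = z1 from e1, show (a 2)⁻¹ * s + (b 2)⁻¹ * t = z2 from e2,
    show (a 0)⁻¹ * s + (b 0)⁻¹ * t = z0 from e0] at h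
  have hvv : (z1 * z2) • P 0 + (z0 * z2) • P 1 + (z0 * z1) • P 2 = (z0 * z1 * z2) • v := by
    conv_rhs => rw [hv', smul_add, smul_add, smul_smul, smul_smul, smul_smul]
    have f0 : z0 * z1 * z2 * Y 0 v = z1 * z2 := by simp only [z0, z1, z2]; field_simp
    have f1 : z0 * z1 * z2 * Y 1 v = z0 * z2 := by simp only [z0, z1, z2]; field_simp
    have f2 : z0 * z1 * z2 * Y 2 v = z0 * z1 := by simp only [z0, z1, z2]; field_simp
    rw [f0, f1, f2]
  rw [hvv, eval_smul_hom hf] at h
  refine (mul_eq_zero.1 h).resolve_left (pow_ne_zero _ (mul_ne_zero (mul_ne_zero ?_ ?_) ?_)) <;>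
    simp [z0, z1, z2, hy0, hy1, hy2]

/-- A reduced curve of degree `d ≤ 4` has at most `d(d-1)/2` singular points. -/
theorem two_mul_card_le : ∀ (d : ℕ), d ≤ 4 → ∀ (f : MvPolynomial (Fin 3) k), f.IsHomogeneous d →
    Squarefree f → ∀ Λ : Finset (Fin 3 → k), (∀ v ∈ Λ, ∀ w ∈ Λ, v ≠ w → LinearIndependent k ![v, w]) →
      (∀ v ∈ Λ, v ≠ 0 ∧ Sing f v) → 2 * Λ.card ≤ d * (d - 1) := by
  intro d
  induction d using Nat.strong_induction_on with
  | _ d ih =>
  intro hd4 f hf hsq Λ hdist hΛ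
  classical
  have hf0 : f ≠ 0 := hsq.ne_zero
  have hconst : ∀ {g : MvPolynomial (Fin 3) k}, g.IsHomogeneous 0 → g ≠ 0 → IsUnit g := by
    intro g hg hg0
    obtain ⟨c, rfl⟩ : ∃ c : k, g = C c :=
      ⟨_, totalDegree_eq_zero_iff_eq_C.1 (Nat.le_zero.1 hg.totalDegree_le)⟩
    exact (isUnit_iff_ne_zero.2 fun h => hg0 (by rw [h, map_zero])).map C
  by_cases hu : IsUnit f
  · rw [Finset.card_eq_zero.2 (Finset.eq_empty_of_forall_notMem fun v hv => ?_)]
    · simp
    · exact (hu.map (eval v)).ne_zero (hΛ v hv).2.1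
  by_cases hirr : Irreducible f
  · obtain ⟨d, rfl⟩ : ∃ d', d = d' + 1 :=
      Nat.exists_eq_succ_of_ne_zero fun h => hu (hconst (h ▸ hf) hf0)
    rcases Nat.eq_zero_or_pos d with rfl | hd
    · rw [Finset.card_eq_zero.2 (Finset.eq_empty_of_forall_notMem fun v hv => ?_)]
      refine hf0 ?_
      have h0 : ∀ i, pderiv i f = 0 := fun i => by
        obtain ⟨c, hc⟩ : ∃ c : k, pderiv i f = C c :=
          ⟨_, totalDegree_eq_zero_iff_eq_C.1 (Nat.le_zero.1 (hf.pderiv (i := i)).totalDegree_le)⟩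
        have := (hΛ v hv).2.2 i
        rw [hc, eval_C] at this
        rw [hc, this, map_zero]
      have := hf.sum_X_mul_pderiv
      simpa [h0] using this.symm
    · have hle1 : d + 1 ≤ 3 → Λ.card ≤ 1 := fun hd3 => by
        by_contra! h
        obtain ⟨v, hv, w, hw, hvw⟩ := Finset.one_lt_card.1 h
        refine no_line hf hirr (by omega) (m := 2) (by omega) (hdist v hv w hw hvw) ![![1, 0], ![0, 1]]
          (fun x => ?_) (fun x y hxy => ?_) fun x => ?_
        · fin_cases x <;> simp [funext_iff, Fin.forall_fin_two]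
        · fin_cases x <;> fin_cases y <;> simp_all
        · fin_cases x
          · simpa using (hΛ v hv).2
          · simpa using (hΛ w hw).2
      rcases Nat.lt_or_ge d 3 with h | h
      · have := hle1 (by omega)
        have : 2 ≤ (d + 1) * d := Nat.mul_le_mul (by omega : 2 ≤ d + 1) hd
        rw [Nat.add_sub_cancel]
        omega
      · obtain rfl : d = 3 := by omega
        suffices Λ.card ≤ 4 by omega
        by_contra! h5
        obtain ⟨S, hSΛ, hS5⟩ := Finset.exists_subset_card_eq (s := Λ) (n := 5) h5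
        let e := (S.equivFinOfCardEq hS5).symm
        exact no_five hf hirr (fun x => e x)
          (fun x y hxy => hdist _ (hSΛ (e x).2) _ (hSΛ (e y).2)
            fun h => hxy (e.injective (Subtype.ext h)))
          fun x => (hΛ _ (hSΛ (e x).2)).2
  · obtain ⟨g, h, hgu, hhu, rfl⟩ : ∃ g h, ¬ IsUnit g ∧ ¬ IsUnit h ∧ f = g * h := by
      by_contra! hne
      exact hirr ⟨hu, fun g h e => by
        by_contra hc
        push Not at hc
        exact hne g h hc.1 hc.2 e⟩
    obtain ⟨a, b, rfl, hga, hhb⟩ := exists_isHomogeneous_of_mul hf hf0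
    obtain ⟨a, rfl⟩ := Nat.exists_eq_succ_of_ne_zero fun e : a = 0 => hgu (hconst (e ▸ hga) (left_ne_zero_of_mul hf0))
    obtain ⟨b, rfl⟩ := Nat.exists_eq_succ_of_ne_zero fun e : b = 0 => hhu (hconst (e ▸ hhb) (right_ne_zero_of_mul hf0))
    obtain ⟨hrel, hsg, hsh⟩ := squarefree_mul_iff.1 hsq
    have h1 := ih (a + 1) (by omega) (by omega) g hga hsg (Λ.filter (Sing g))
      (fun v hv w hw => hdist v (Finset.mem_filter.1 hv).1 w (Finset.mem_filter.1 hw).1)
      fun v hv => ⟨(hΛ v (Finset.mem_filter.1 hv).1).1, (Finset.mem_filter.1 hv).2⟩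
    have h2 := ih (b + 1) (by omega) (by omega) h hhb hsh (Λ.filter (Sing h))
      (fun v hv w hw => hdist v (Finset.mem_filter.1 hv).1 w (Finset.mem_filter.1 hw).1)
      fun v hv => ⟨(hΛ v (Finset.mem_filter.1 hv).1).1, (Finset.mem_filter.1 hv).2⟩
    have h3 := card_le_mul hga hhb (left_ne_zero_of_mul hf0) (right_ne_zero_of_mul hf0) hrel
      (Λ.filter fun v => eval v g = 0 ∧ eval v h = 0)
      (fun v hv w hw => hdist v (Finset.mem_filter.1 hv).1 w (Finset.mem_filter.1 hw).1)
      (fun v hv => (hΛ v (Finset.mem_filter.1 hv).1).1) fun v hv => (Finset.mem_filter.1 hv).2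
    have hsub : Λ ⊆ Λ.filter (Sing g) ∪ Λ.filter (Sing h) ∪
        Λ.filter (fun v => eval v g = 0 ∧ eval v h = 0) := by
      intro v hv
      obtain ⟨-, hv0, hvd⟩ := hΛ v hv
      simp only [Finset.mem_union, Finset.mem_filter, hv, true_and]
      rw [map_mul] at hv0
      by_cases hg : eval v g = 0
      · by_cases hh : eval v h = 0
        · exact Or.inr ⟨hg, hh⟩
        · refine Or.inl (Or.inl ⟨hg, fun i => ?_⟩)
          have := hvd i
          simp only [pderiv_mul, map_add, map_mul, hg, zero_mul, add_zero] at this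
          exact (mul_eq_zero.1 this).resolve_right hh
      · have hh := (mul_eq_zero.1 hv0).resolve_left hg
        refine Or.inl (Or.inr ⟨hh, fun i => ?_⟩)
        have := hvd i
        simp only [pderiv_mul, map_add, map_mul, hh, mul_zero, zero_add] at this
        exact (mul_eq_zero.1 this).resolve_left hg
    have h4 := (Finset.card_le_card hsub).trans ((Finset.card_union_le _ _).trans
      (Nat.add_le_add_right (Finset.card_union_le _ _) _))
    simp only [Nat.add_sub_cancel] at h1 h2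
    rw [show a.succ + b.succ - 1 = a + b + 1 by omega]
    nlinarith

end Groth.L28.SingBound
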